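import Mathlib.RingTheory.Derivation.MapCoeffs
import Mathlib.RingTheory.Etale.Kaehler
import Mathlib.RingTheory.Algebraic.Basic
import Mathlib.FieldTheory.RatFunc.Basic

/-!
# Extending derivations to localisations and to the affine line
-/

set_option autoImplicit false

universe u

open scoped TensorProduct
open Polynomial

namespace Groth.L16.RTrivForms

section Extend

variable (k : Type u) {A C : Type u} [CommRing k] [CommRing A] [CommRing C] [Algebra k A]
  [Algebra k C] [Algebra A C] [IsScalarTower k A C] [Algebra.FormallyEtale A C]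

/-- Derivations extend along formally étale maps. -/
theorem exists_extend_der (d : Derivation k A C) :
    ∃ D : Derivation k C C, ∀ a, D (algebraMap A C a) = d a := by
  refine ⟨((LinearMap.liftBaseChange C d.liftKaehlerDifferential).comp
    (KaehlerDifferential.tensorKaehlerEquivOfFormallyEtale k A C).symm.toLinearMap).compDer
      (KaehlerDifferential.D k C), fun a => ?_⟩
  show LinearMap.liftBaseChange C d.liftKaehlerDifferential
    ((KaehlerDifferential.tensorKaehlerEquivOfFormallyEtale k A C).symm
      (KaehlerDifferential.D k C (algebraMap A C a))) = d a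
  rw [KaehlerDifferential.tensorKaehlerEquivOfFormallyEtale_symm_D_algebraMap,
    LinearMap.liftBaseChange_tmul, one_smul]
  exact d.liftKaehlerDifferential_comp_D a

/-- Derivations on a formally étale algebra are determined on the base. -/
theorem der_ext_formallyEtale {M : Type u} [AddCommGroup M] [Module C M] [Module k M]
    [IsScalarTower k C M] {D D' : Derivation k C M}
    (h : ∀ a, D (algebraMap A C a) = D' (algebraMap A C a)) : D = D' := by
  suffices hl : D.liftKaehlerDifferential = D'.liftKaehlerDifferential by
    ext c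
    rw [← D.liftKaehlerDifferential_comp_D, hl, D'.liftKaehlerDifferential_comp_D]
  letI : Module A M := Module.compHom M (algebraMap A C)
  haveI : IsScalarTower A C M := IsScalarTower.of_compHom A C M
  refine LinearMap.ext fun w => ?_
  obtain ⟨z, rfl⟩ := (KaehlerDifferential.tensorKaehlerEquivOfFormallyEtale k A C).surjective w
  induction z with
  | zero => simp
  | add x y hx hy => rw [map_add, map_add, map_add, hx, hy]
  | tmul c y =>
    rw [KaehlerDifferential.tensorKaehlerEquivOfFormallyEtale_apply,
      KaehlerDifferential.mapBaseChange_tmul, map_smul, map_smul]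
    congr 1
    have hy : y ∈ Submodule.span A (Set.range (KaehlerDifferential.D k A)) := by
      rw [KaehlerDifferential.span_range_derivation]; trivial
    induction hy using Submodule.span_induction with
    | mem y hy =>
      obtain ⟨a, rfl⟩ := hy
      rw [KaehlerDifferential.map_D, Derivation.liftKaehlerDifferential_comp_D,
        Derivation.liftKaehlerDifferential_comp_D, h]
    | zero => simp
    | add x y _ _ hx hy => rw [map_add, map_add, map_add, hx, hy]
    | smul a x _ hx =>
      rw [map_smul, LinearMap.map_smul_of_tower, LinearMap.map_smul_of_tower, hx]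

end Extend

section Line

variable {k K : Type u} [CommRing k] [Field K] [Algebra k K]

/-- A derivation of the coefficients acts on polynomials. -/
theorem exists_coeff_der (δ : Derivation k K K) :
    ∃ d : Derivation k K[X] K[X], ∀ p n, (d p).coeff n = δ (p.coeff n) :=
  ⟨(PolynomialModule.equivPolynomialSelf.toLinearMap).compDer δ.mapCoeffs, fun _ _ => rfl⟩

theorem eq_C_of_aeval_inv {F : Type u} [Field F] [Algebra K F] {t : F} (ht : Transcendental K t)
    {p₁ p₂ : K[X]} (h : aeval t p₁ = aeval t⁻¹ p₂) :
    ∃ c : K, p₁ = C c ∧ p₂ = C c := by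
  have hinj : Function.Injective (aeval (R := K) t) := transcendental_iff_injective.mp ht
  have hinj' : Function.Injective (aeval (R := K) t⁻¹) :=
    transcendental_iff_injective.mp fun h' => ht (IsAlgebraic.inv_iff.mp h')
  have ht0 : t ≠ 0 := fun h0 => ht (h0 ▸ isAlgebraic_zero)
  set n := p₂.natDegree
  let r : K[X] := ∑ j ∈ Finset.range (n + 1), C (p₂.coeff j) * X ^ (n - j)
  have hr : aeval t (X ^ n * p₁) = aeval t r := by
    rw [map_mul, map_pow, aeval_X, h, aeval_eq_sum_range, Finset.mul_sum]
    simp only [r, map_sum, map_mul, map_pow, aeval_C, aeval_X, n]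
    refine Finset.sum_congr rfl fun j hj => ?_
    have hj' : j ≤ p₂.natDegree := Nat.lt_succ_iff.mp (Finset.mem_range.mp hj)
    rw [Algebra.smul_def, inv_pow, pow_sub₀ t ht0 hj']
    ring
  have hdeg : (X ^ n * p₁).natDegree ≤ n := by
    rw [hinj hr]
    exact natDegree_sum_le_of_forall_le _ _ fun j _ =>
      (natDegree_C_mul_X_pow_le _ _).trans (Nat.sub_le _ _)
  have h0 : p₁.natDegree = 0 := by
    by_cases hp : p₁ = 0
    · rw [hp, natDegree_zero]
    · rw [natDegree_mul (pow_ne_zero _ X_ne_zero) hp, natDegree_X_pow] at hdeg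
      omega
  obtain ⟨c, rfl⟩ := natDegree_eq_zero.mp h0
  exact ⟨c, rfl, hinj' (by rw [← h, aeval_C, aeval_C])⟩

/-- An element of the fraction field regular at every prime is a polynomial. -/
theorem mem_range_of_local {A F : Type u} [CommRing A] [Field F] [Algebra A F] {v : F}
    (h : ∀ q : Ideal A, q.IsMaximal → ∃ a s : A, s ∉ q ∧ algebraMap A F s * v = algebraMap A F a) :
    ∃ a : A, algebraMap A F a = v := by
  let J : Ideal A :=
    { carrier := {s | ∃ a : A, algebraMap A F s * v = algebraMap A F a}
      zero_mem' := ⟨0, by simp⟩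
      add_mem' := fun {x y} ⟨a, ha⟩ ⟨b, hb⟩ => ⟨a + b, by rw [map_add, map_add, add_mul, ha, hb]⟩
      smul_mem' := fun r x ⟨a, ha⟩ => ⟨r * a, by rw [smul_eq_mul, map_mul, map_mul, mul_assoc, ha]⟩ }
  have hJ : J = ⊤ := by
    by_contra hne
    obtain ⟨q, hq, hJq⟩ := Ideal.exists_le_maximal J hne
    obtain ⟨a, s, hs, hsa⟩ := h q hq
    exact hs (hJq ⟨a, hsa⟩)
  obtain ⟨a, ha⟩ : (1 : A) ∈ J := hJ ▸ Submodule.mem_top
  exact ⟨a, by rw [← ha, map_one, one_mul]⟩

end Line

end Groth.L16.RTrivForms
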