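import Groth.Agent.L16.RTrivForms.Val
import Groth.Agent.L16.RTrivForms.Der
import Mathlib.RingTheory.Localization.FractionRing

/-!
# Tensors of forms are detected on derivations of the fraction field
-/

set_option autoImplicit false
set_option linter.style.haveILetI false
set_option linter.unusedSectionVars false
set_option backward.isDefEq.respectTransparency false
set_option backward.isDefEq.respectTransparency.types false

universe u

open CategoryTheory CategoryTheory.Limits AlgebraicGeometry TopologicalSpace Opposite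
open Groth.L18.Frame (rs ro rs_rs ro_ro rs_smul rs_self ro_self)
open Groth.L19.ProjBdl (IsBasisOn)
open Groth.L18.GenLoc (tens)
open Groth.L12.FrobLift (baseHom exists_kEquiv)
open Groth.L18.PlkAlg (K K_injective)
open OmegaSh (dSect)

noncomputable section

namespace Groth.L16.RTrivForms

variable {k : Type u} [Field k] {X : Scheme.{u}} (f : X ⟶ Spec (CommRingCat.of k)) [QuasiSeparated f]
  {V : X.Opens} (hV : IsAffineOpen V) {F : Type u} [Field F] [Algebra k F] {φ : Γ(X, V) →+* F}
  (hφ : Compat f φ)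

/-- Derivations dual to a basis of differentials. -/
theorem exists_dual_der {r : ℕ} {b : Fin r → Γ(Omega.sheaf f, V)} (hb : IsBasisOn (Omega.sheaf f) V b)
    (hloc : letI := φ.toAlgebra; IsFractionRing Γ(X, V) F) :
    ∃ δ : Fin r → Derivation k F F, ∀ j l, lam f hV hφ (δ j) (b l) = if l = j then 1 else 0 := by
  obtain ⟨B, hB⟩ := Groth.L18.PlkAlg.exists_moduleBasis hb
  letI := (baseHom f V).toAlgebra
  letI : Algebra Γ(X, V) F := φ.toAlgebra
  haveI : IsScalarTower k Γ(X, V) F := IsScalarTower.of_algebraMap_eq' hφ.symm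
  haveI : IsFractionRing Γ(X, V) F := hloc
  haveI : Algebra.FormallyEtale Γ(X, V) F :=
    Algebra.FormallyEtale.of_isLocalization (Rₘ := F) (nonZeroDivisors Γ(X, V))
  obtain ⟨e, he⟩ := exists_kEquiv f hV
  let l : Fin r → (Γ(Omega.sheaf f, V) →ₛₗ[φ] F) := fun j =>
    { toFun := fun x => φ (B.coord j x)
      map_add' := fun x y => by rw [map_add, map_add]
      map_smul' := fun a x => by rw [map_smul, smul_eq_mul, map_mul, smul_eq_mul] }
  choose δ hδ using fun j => exists_extend_der k (C := F)
    (((Algebra.linearMap Γ(X, V) F).comp ((B.coord j).comp e.toLinearMap)).compDer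
      (KaehlerDifferential.D k Γ(X, V)))
  refine ⟨δ, fun j m => ?_⟩
  have h : lam f hV hφ (δ j) = l j := lam_ext f hV fun a => by
    rw [lam_dSect]
    refine (hδ j a).trans ?_
    exact congrArg (fun z => φ (B.coord j z)) (he a)
  rw [h]
  show φ (B.coord j (b m)) = _
  rw [← hB, Module.Basis.coord_apply, Module.Basis.repr_self, Finsupp.single_apply]
  split_ifs <;> simp

variable {i : ℕ} {L : X.Modules} (hL : ExtPow.IsExtPow i (Omega.sheaf f) L)

theorem det_wedge_indicator {e d : ℕ} (ks : Fin (d.choose e) ≃ Set.powersetCard (Fin d) e)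
    {R : Type u} [CommRing R] (J J' : Fin (d.choose e)) :
    (Matrix.of fun b a : Fin e => if K ks J' b = K ks J a then (1 : R) else 0).det =
      if J' = J then 1 else 0 := by
  split_ifs with h
  · subst h
    have : (Matrix.of fun b a : Fin e => if K ks J' b = K ks J' a then (1 : R) else 0) = 1 := by
      refine Matrix.ext fun b a => ?_
      simp [Matrix.one_apply, (K_injective ks J').eq_iff]
    rw [this, Matrix.det_one]
  · obtain ⟨b, hb⟩ : ∃ b, ∀ a, K ks J' b ≠ K ks J a := by
      by_contra hc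
      push Not at hc
      refine h (ks.injective (Subtype.ext ?_))
      refine Finset.eq_of_subset_of_card_le (fun x hx => ?_) ?_
      · obtain ⟨b, rfl⟩ := (Set.powersetCard.mem_range_ofFinEmbEquiv_symm_iff_mem (ks J') x).2 hx
        obtain ⟨a, ha⟩ := hc b
        exact (Set.powersetCard.mem_range_ofFinEmbEquiv_symm_iff_mem (ks J) _).1 ⟨a, ha.symm⟩
      · exact le_of_eq ((ks J).2.trans (ks J').2.symm)
    exact Matrix.det_eq_zero_of_row_eq_zero b fun a => if_neg (hb a)

theorem exists_adapted {r : ℕ} {b : Fin r → Γ(Omega.sheaf f, V)} (hb : IsBasisOn (Omega.sheaf f) V b)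
    (hloc : letI := φ.toAlgebra; IsFractionRing Γ(X, V) F) :
    ∃ (c : Fin (r.choose i) → Γ(L, V)) (D : Fin (r.choose i) → Fin i → Derivation k F F),
      IsBasisOn L V c ∧ ∀ J J', ev1 f hL.choose hV hφ (D J) (c J') = if J' = J then 1 else 0 := by
  obtain ⟨ks⟩ := Groth.L18.PlkAlg.exists_enum i r
  obtain ⟨δ, hδ⟩ := exists_dual_der f hV hφ hb hloc
  refine ⟨_, fun J a => δ (K ks J a),
    Groth.L12.ExtSh.isBasisOn_extPow hL.choose hL.choose_spec (U := ⟨V, hV⟩) hb ks, fun J J' => ?_⟩
  refine (ev1_ιMulti f hL.choose hV hφ _ (b ∘ K ks J')).trans ?_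
  rw [← det_wedge_indicator ks (R := F) J J']
  exact congrArg Matrix.det (Matrix.ext fun x a => hδ _ _)

theorem eq_zero_of_evN (hinj : Function.Injective φ) {d : ℕ} {c : Fin d → Γ(L, V)}
    (hc : IsBasisOn L V c) {D : Fin d → Fin i → Derivation k F F}
    (hD : ∀ J J', ev1 f hL.choose hV hφ (D J) (c J') = if J' = J then 1 else 0) :
    ∀ (n : ℕ) (s : Γ(CohB1.tensorPow L n, V)),
      (∀ E, evN f hL.choose hV hφ hc n E s = 0) → s = 0
  | 0, s, h => hinj ((h fun e => e.elim0).trans (map_zero φ).symm)
  | n + 1, s, h => by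
    have hw : ∀ J, cw hc (show Γ(CohB1.tensorMod (CohB1.tensorPow L n) L, V) from s) J = 0 := fun J =>
      eq_zero_of_evN hinj hc hD n _ fun E => by
        have h1 := h (Fin.snoc E (D J))
        rw [evN_succ] at h1
        simp only [Fin.snoc_castSucc, Fin.snoc_last, hD] at h1
        simpa using h1
    refine (cw_spec hc (show Γ(CohB1.tensorMod (CohB1.tensorPow L n) L, V) from s)).symm.trans ?_
    exact Finset.sum_eq_zero fun J _ => by rw [hw J]; exact Groth.L19.ProjBdl.tens_zero_left _

/-- A tensor of forms is zero when all its values at the generic point vanish. -/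
theorem eq_zero_of_evG [IsDomain Γ(X, V)] (hG : Good L V) {r : ℕ} {b : Fin r → Γ(Omega.sheaf f, V)}
    (hb : IsBasisOn (Omega.sheaf f) V b) (hloc : letI := φ.toAlgebra; IsFractionRing Γ(X, V) F)
    {n : ℕ} (s : Γ(CohB1.tensorPow L n, V)) (h : ∀ E, evG f hL hG hφ E s = 0) : s = 0 := by
  letI : Algebra Γ(X, V) F := φ.toAlgebra
  haveI : IsFractionRing Γ(X, V) F := hloc
  obtain ⟨c, D, hc, hD⟩ := exists_adapted f hG.1 hφ hL hb hloc
  refine eq_zero_of_evN f hG.1 hφ hL (IsFractionRing.injective Γ(X, V) F) hc hD n s fun E => ?_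
  rw [← rs_self (CohB1.tensorPow L n) le_rfl s]
  refine (evN_rs f hL.choose hG.1 hφ hG.2.choose_spec.choose_spec hL.choose_spec hG.1 le_rfl hφ
    (fun x => congrArg φ (ro_self _ x)) hc n E s).trans (h E)

end Groth.L16.RTrivForms
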