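import Groth.Agent.L12.ExtSh.Free
import Groth.Agent.L12.ExtSh.TensBasis
import Groth.Agent.L12.FrobLift.Chart
import Groth.Agent.L18.Grass.PlkAlg
import Groth.Prelude.Def_CohB1

/-!
# Evaluating tensor powers of exterior powers of differentials on derivations
-/

set_option autoImplicit false
set_option linter.style.haveILetI false
set_option linter.unusedSectionVars false
set_option backward.isDefEq.respectTransparency false
set_option backward.isDefEq.respectTransparency.types false

universe u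

open CategoryTheory CategoryTheory.Limits AlgebraicGeometry TopologicalSpace Opposite
open Groth.L18.Frame (rs ro rs_rs ro_ro rs_smul rs_self ro_self)
open Groth.L19.ProjBdl (IsBasisOn lc tens_sum_left)
open Groth.L18.GenLoc (tens tens_rs tens_smul_left tens_smul_right)
open Groth.L12.FrobLift (baseHom exists_kEquiv)
open OmegaSh (dSect dSect_map)

noncomputable section

namespace Groth.L16.RTrivForms

variable {k : Type u} [Field k] {X : Scheme.{u}} (f : X ⟶ Spec (CommRingCat.of k))
  {V : X.Opens} {C : Type u} [CommRing C] [Algebra k C]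

/-- A `k`-algebra homomorphism out of the functions on an open. -/
def Compat (φ : Γ(X, V) →+* C) : Prop := φ.comp (baseHom f V) = algebraMap k C

section Lam

variable [QuasiSeparated f]

theorem exists_lam (hV : IsAffineOpen V) {φ : Γ(X, V) →+* C} (hφ : Compat f φ) (D : Derivation k C C) :
    ∃ l : Γ(Omega.sheaf f, V) →ₛₗ[φ] C, ∀ b, l (dSect f V b) = D (φ b) := by
  letI := (baseHom f V).toAlgebra
  letI : Algebra Γ(X, V) C := φ.toAlgebra
  haveI : IsScalarTower k Γ(X, V) C := IsScalarTower.of_algebraMap_eq' hφ.symm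
  obtain ⟨e, he⟩ := exists_kEquiv f hV
  let l₀ : Γ(Omega.sheaf f, V) →ₗ[Γ(X, V)] C :=
    (D.compAlgebraMap Γ(X, V)).liftKaehlerDifferential.comp e.symm.toLinearMap
  refine ⟨{ toFun := l₀, map_add' := map_add l₀, map_smul' := fun r w => l₀.map_smul r w }, fun b => ?_⟩
  show (D.compAlgebraMap Γ(X, V)).liftKaehlerDifferential (e.symm (dSect f V b)) = D (φ b)
  rw [← he, e.symm_apply_apply, Derivation.liftKaehlerDifferential_comp_D]
  rfl

theorem lam_ext (hV : IsAffineOpen V) {φ : Γ(X, V) →+* C} {l l' : Γ(Omega.sheaf f, V) →ₛₗ[φ] C}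
    (h : ∀ b, l (dSect f V b) = l' (dSect f V b)) : l = l' := by
  letI := (baseHom f V).toAlgebra
  obtain ⟨e, he⟩ := exists_kEquiv f hV
  refine LinearMap.ext fun w => ?_
  obtain ⟨y, rfl⟩ := e.surjective w
  have hy : y ∈ Submodule.span Γ(X, V) (Set.range (KaehlerDifferential.D k Γ(X, V))) := by
    rw [KaehlerDifferential.span_range_derivation]; trivial
  induction hy using Submodule.span_induction with
  | mem y hy => obtain ⟨b, rfl⟩ := hy; rw [he, h]
  | zero => simp
  | add a b _ _ ha hb => simp only [map_add, ha, hb]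
  | smul r a _ ha => rw [map_smul, LinearMap.map_smulₛₗ, LinearMap.map_smulₛₗ, ha]

variable (hV : IsAffineOpen V) {φ : Γ(X, V) →+* C} (hφ : Compat f φ)

/-- Contraction of a differential with a derivation. -/
def lam (D : Derivation k C C) : Γ(Omega.sheaf f, V) →ₛₗ[φ] C := (exists_lam f hV hφ D).choose

theorem lam_dSect (D : Derivation k C C) (b : Γ(X, V)) : lam f hV hφ D (dSect f V b) = D (φ b) :=
  (exists_lam f hV hφ D).choose_spec b

theorem lam_zero (w : Γ(Omega.sheaf f, V)) : lam f hV hφ 0 w = 0 := by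
  have h : lam f hV hφ 0 = 0 := lam_ext f hV fun b => by rw [lam_dSect]; rfl
  rw [h]; rfl

variable {W : X.Opens} (hW : IsAffineOpen W) (hle : W ≤ V) {φW : Γ(X, W) →+* C} (hφW : Compat f φW)
  (hres : ∀ b, φW (ro hle b) = φ b)

include hres in
theorem lam_rs (D : Derivation k C C) (w : Γ(Omega.sheaf f, V)) :
    lam f hW hφW D (rs (Omega.sheaf f) hle w) = lam f hV hφ D w := by
  let l : Γ(Omega.sheaf f, V) →ₛₗ[φ] C :=
    { toFun := fun x => lam f hW hφW D (rs (Omega.sheaf f) hle x)
      map_add' := fun a b => (congrArg (lam f hW hφW D) (map_add _ a b)).trans (map_add _ _ _)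
      map_smul' := fun r a => by rw [rs_smul, LinearMap.map_smulₛₗ, hres] }
  have h : l = lam f hV hφ D := lam_ext f hV fun b => by
    show lam f hW hφW D (rs (Omega.sheaf f) hle (dSect f V b)) = _
    rw [show rs (Omega.sheaf f) hle (dSect f V b) = dSect f W (ro hle b) from
      (dSect_map f hle b).symm, lam_dSect, lam_dSect, hres]
  exact congr($h w)

variable {C' : Type u} [CommRing C'] [Algebra k C'] (ψ : C →+* C') {φ' : Γ(X, V) →+* C'}
  (hφ' : Compat f φ') (hψ : ∀ b, φ' b = ψ (φ b))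

include hψ in
theorem lam_comp {D : Derivation k C C} {D' : Derivation k C' C'} (hD : ∀ x, D' (ψ x) = ψ (D x))
    (w : Γ(Omega.sheaf f, V)) : lam f hV hφ' D' w = ψ (lam f hV hφ D w) := by
  let l : Γ(Omega.sheaf f, V) →ₛₗ[φ'] C' :=
    { toFun := fun x => ψ (lam f hV hφ D x)
      map_add' := fun a b => by rw [map_add, map_add]
      map_smul' := fun r a => by
        rw [LinearMap.map_smulₛₗ, smul_eq_mul, map_mul, hψ, smul_eq_mul] }
  have h : lam f hV hφ' D' = l := lam_ext f hV fun b => by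
    show lam f hV hφ' D' (dSect f V b) = ψ (lam f hV hφ D (dSect f V b))
    rw [lam_dSect, lam_dSect, hψ, hD]
  exact congr($h w)

end Lam

section Wedge

variable [QuasiSeparated f] {i : ℕ} {L : X.Modules}
  (φL : ∀ U : X.affineOpens,
    (L.val.obj (op U.1)) ≃ₗ[Γ(X, U.1)] ↥(⋀[Γ(X, U.1)]^i ((Omega.sheaf f).val.obj (op U.1))))

theorem exists_ev1 (hV : IsAffineOpen V) {φ : Γ(X, V) →+* C} (hφ : Compat f φ)
    (D : Fin i → Derivation k C C) :
    ∃ l : Γ(L, V) →ₛₗ[φ] C, ∀ v : Fin i → (Omega.sheaf f).val.obj (op V),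
      l ((φL ⟨V, hV⟩).symm (exteriorPower.ιMulti Γ(X, V) i v)) =
        Matrix.det (Matrix.of fun b a => lam f hV hφ (D a) (v b)) := by
  letI : Algebra Γ(X, V) C := φ.toAlgebra
  let c : (Omega.sheaf f).val.obj (op V) →ₗ[Γ(X, V)] (Fin i → C) :=
    { toFun := fun w a => lam f hV hφ (D a) w
      map_add' := fun x y => funext fun a => map_add (lam f hV hφ (D a)) x y
      map_smul' := fun r x => funext fun a => LinearMap.map_smulₛₗ (lam f hV hφ (D a)) r x }
  let A : L.val.obj (op V) →ₗ[Γ(X, V)] C :=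
    (exteriorPower.alternatingMapLinearEquiv (Groth.L18.PlkAlg.detAlt c)).comp (φL ⟨V, hV⟩).toLinearMap
  refine ⟨{ toFun := A, map_add' := map_add A, map_smul' := fun r w => A.map_smul r w }, fun v => ?_⟩
  show exteriorPower.alternatingMapLinearEquiv (Groth.L18.PlkAlg.detAlt c)
    (φL ⟨V, hV⟩ ((φL ⟨V, hV⟩).symm _)) = _
  rw [LinearEquiv.apply_symm_apply, exteriorPower.alternatingMapLinearEquiv_apply_ιMulti]
  rfl

theorem ev1_ext (hV : IsAffineOpen V) {φ : Γ(X, V) →+* C} {l l' : Γ(L, V) →ₛₗ[φ] C}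
    (h : ∀ v : Fin i → (Omega.sheaf f).val.obj (op V),
      l ((φL ⟨V, hV⟩).symm (exteriorPower.ιMulti Γ(X, V) i v)) =
        l' ((φL ⟨V, hV⟩).symm (exteriorPower.ιMulti Γ(X, V) i v))) : l = l' := by
  refine LinearMap.ext fun w => ?_
  obtain ⟨z, rfl⟩ := (φL ⟨V, hV⟩).symm.surjective w
  have hz : z ∈ Submodule.span Γ(X, V)
      (Set.range (exteriorPower.ιMulti Γ(X, V) i (M := (Omega.sheaf f).val.obj (op V)))) := by
    rw [exteriorPower.ιMulti_span]; exact Submodule.mem_top
  induction hz using Submodule.span_induction with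
  | mem y hy => obtain ⟨v, rfl⟩ := hy; exact h v
  | zero => rw [map_zero]; exact (map_zero l).trans (map_zero l').symm
  | add a b _ _ ha hb =>
    rw [map_add]
    exact (map_add l _ _).trans ((congrArg₂ (· + ·) ha hb).trans (map_add l' _ _).symm)
  | smul r a _ ha =>
    rw [map_smul]
    exact (LinearMap.map_smulₛₗ l r _).trans
      ((congrArg (φ r • ·) ha).trans (LinearMap.map_smulₛₗ l' r _).symm)

variable (hV : IsAffineOpen V) {φ : Γ(X, V) →+* C} (hφ : Compat f φ)

/-- Contraction of an `i`-form with `i` derivations. -/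
def ev1 (D : Fin i → Derivation k C C) : Γ(L, V) →ₛₗ[φ] C := (exists_ev1 f φL hV hφ D).choose

theorem ev1_ιMulti (D : Fin i → Derivation k C C) (v : Fin i → (Omega.sheaf f).val.obj (op V)) :
    ev1 f φL hV hφ D ((φL ⟨V, hV⟩).symm (exteriorPower.ιMulti Γ(X, V) i v)) =
      Matrix.det (Matrix.of fun b a => lam f hV hφ (D a) (v b)) :=
  (exists_ev1 f φL hV hφ D).choose_spec v

theorem ev1_zero (hi : 0 < i) (l : Γ(L, V)) : ev1 f φL hV hφ 0 l = 0 := by
  have h : ev1 f φL hV hφ 0 = 0 := ev1_ext f φL hV fun v => by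
    rw [ev1_ιMulti]
    exact Matrix.det_eq_zero_of_column_eq_zero ⟨0, hi⟩ fun b => lam_zero f hV hφ _
  rw [h]; rfl

theorem ev1_comp {C' : Type u} [CommRing C'] [Algebra k C'] (ψ : C →+* C') {φ' : Γ(X, V) →+* C'}
    (hφ' : Compat f φ') (hψ : ∀ b, φ' b = ψ (φ b))
    {D : Fin i → Derivation k C C} {D' : Fin i → Derivation k C' C'}
    (hD : ∀ a x, D' a (ψ x) = ψ (D a x)) (w : Γ(L, V)) :
    ev1 f φL hV hφ' D' w = ψ (ev1 f φL hV hφ D w) := by
  let l : Γ(L, V) →ₛₗ[φ'] C' :=
    { toFun := fun x => ψ (ev1 f φL hV hφ D x)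
      map_add' := fun a b => by rw [map_add, map_add]
      map_smul' := fun r a => by
        rw [LinearMap.map_smulₛₗ, smul_eq_mul, map_mul, hψ, smul_eq_mul] }
  have h : ev1 f φL hV hφ' D' = l := ev1_ext f φL hV fun v => by
    show ev1 f φL hV hφ' D' _ = ψ (ev1 f φL hV hφ D _)
    rw [ev1_ιMulti, ev1_ιMulti, RingHom.map_det]
    refine congrArg Matrix.det (Matrix.ext fun b a => ?_)
    exact lam_comp f hV hφ ψ hφ' hψ (hD a) (v b)
  exact congr($h w)

variable (hφL : ∀ (U U' : X.affineOpens) (h : U'.1 ≤ U.1) (e : Fin i → (Omega.sheaf f).val.obj (op U.1)),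
      L.val.map (homOfLE h).op ((φL U).symm (exteriorPower.ιMulti _ i e)) =
        (φL U').symm (exteriorPower.ιMulti _ i (fun j => (Omega.sheaf f).val.map (homOfLE h).op (e j))))
  {W : X.Opens} (hW : IsAffineOpen W) (hle : W ≤ V) {φW : Γ(X, W) →+* C} (hφW : Compat f φW)
  (hres : ∀ b, φW (ro hle b) = φ b)

include hφL hres in
theorem ev1_rs (D : Fin i → Derivation k C C) (w : Γ(L, V)) :
    ev1 f φL hW hφW D (rs L hle w) = ev1 f φL hV hφ D w := by
  let l : Γ(L, V) →ₛₗ[φ] C :=
    { toFun := fun x => ev1 f φL hW hφW D (rs L hle x)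
      map_add' := fun a b => (congrArg (ev1 f φL hW hφW D) (map_add _ a b)).trans (map_add _ _ _)
      map_smul' := fun r a => by rw [rs_smul, LinearMap.map_smulₛₗ, hres] }
  have h : l = ev1 f φL hV hφ D := ev1_ext f φL hV fun v => by
    show ev1 f φL hW hφW D (rs L hle ((φL ⟨V, hV⟩).symm _)) = _
    rw [show rs L hle ((φL ⟨V, hV⟩).symm (exteriorPower.ιMulti Γ(X, V) i v)) = _ from
      hφL ⟨V, hV⟩ ⟨W, hW⟩ hle v, ev1_ιMulti, ev1_ιMulti]
    exact congrArg Matrix.det (Matrix.ext fun b a => lam_rs f hV hφ hW hle hφW hres (D a) (v b))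
  exact congr($h w)

end Wedge

end Groth.L16.RTrivForms
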