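import Groth.Agent.L16.RTrivForms.Val
import Groth.Agent.L16.RTrivForms.Der
import Mathlib.RingTheory.Localization.FractionRing

/-!
# Values are constant along two charts of the projective line
-/

set_option autoImplicit false
set_option linter.style.haveILetI false
set_option linter.unusedSectionVars false
set_option backward.isDefEq.respectTransparency false
set_option backward.isDefEq.respectTransparency.types false

universe u

open CategoryTheory AlgebraicGeometry Polynomial

noncomputable section

namespace Groth.L16.RTrivForms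

section Alg

variable {k : Type u} [CommRing k]

/-- Compatibility of derivations with a map out of a localisation. -/
theorem comm_of_isLocalization {A C E : Type u} [CommRing A] [CommRing C] [Field E] [Algebra k C]
    [Algebra k E] [Algebra A C] (M : Submonoid A) [IsLocalization M C] (ψ : C →+* E)
    (DC : Derivation k C C) (DE : Derivation k E E)
    (h : ∀ a, DE (ψ (algebraMap A C a)) = ψ (DC (algebraMap A C a))) (x : C) :
    DE (ψ x) = ψ (DC x) := by
  obtain ⟨⟨a, s⟩, hx⟩ := IsLocalization.surj M x
  have hne : ψ (algebraMap A C s) ≠ 0 := ((IsLocalization.map_units C s).map ψ).ne_zero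
  have h1 : DE (ψ x * ψ (algebraMap A C s)) = ψ (DC (x * algebraMap A C s)) := by
    rw [← map_mul, hx]; exact h a
  rw [Derivation.leibniz, Derivation.leibniz, map_add, smul_eq_mul, smul_eq_mul, smul_eq_mul,
    smul_eq_mul, map_mul, map_mul, h, add_right_inj] at h1
  exact mul_left_cancel₀ hne h1

/-- The lift of a ring map to a localisation sends `k` correctly. -/
theorem lift_comp_algebraMap {A C E : Type u} [CommRing A] [CommRing C] [CommRing E] [Algebra k A]
    [Algebra k C] [Algebra k E] [Algebra A C] [IsScalarTower k A C] (M : Submonoid A)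
    [IsLocalization M C] {g : A →+* E} (hg : ∀ y : M, IsUnit (g y))
    (hk : g.comp (algebraMap k A) = algebraMap k E) :
    (IsLocalization.lift (S := C) hg).comp (algebraMap k C) = algebraMap k E := by
  rw [IsScalarTower.algebraMap_eq k A C, ← RingHom.comp_assoc, IsLocalization.lift_comp, hk]

end Alg

variable {k : Type u} [Field k] {Y : Scheme.{u}} (f : Y ⟶ Spec (CommRingCat.of k)) [QuasiSeparated f]
  {i : ℕ} {L : Y.Modules} (hL : ExtPow.IsExtPow i (Omega.sheaf f) L) (hLF : FlatMod.IsFinLocFree L)
  {K : Type u} [Field K] [Algebra k K] {n : ℕ} (δ : Fin n → Fin i → Derivation k K K)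

/-- Over `k`, the affine line over `K`. -/
theorem line_over {C : Type u} [CommRing C] [Algebra k C] (φ : K[X] →+* C)
    (hφ : φ.comp (algebraMap k K[X]) = algebraMap k C)
    {h : Spec (CommRingCat.of K[X]) ⟶ Y}
    (hh : h ≫ f = Spec.map (CommRingCat.ofHom (algebraMap k K[X]))) :
    (Spec.map (CommRingCat.ofHom φ) ≫ h) ≫ f = Spec.map (CommRingCat.ofHom (algebraMap k C)) := by
  rw [Category.assoc, hh, ← Spec.map_comp, ← CommRingCat.ofHom_comp, hφ]

theorem tau_algebraMap :
    (algebraMap K[X] (FractionRing K[X])).comp (algebraMap k K[X]) =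
      algebraMap k (FractionRing K[X]) :=
  (IsScalarTower.algebraMap_eq k K[X] (FractionRing K[X])).symm

theorem eval0_algebraMap : (evalRingHom (0 : K)).comp (algebraMap k K[X]) = algebraMap k K :=
  RingHom.ext fun r => by simp [IsScalarTower.algebraMap_apply k K K[X]]

theorem exists_poly_val (d : Fin n → Fin i → Derivation k K[X] K[X])
    (hd : ∀ e a p m, (d e a p).coeff m = δ e a (p.coeff m))
    (DF : Fin n → Fin i → Derivation k (FractionRing K[X]) (FractionRing K[X]))
    (hDF : ∀ e a p, DF e a (algebraMap K[X] (FractionRing K[X]) p) =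
      algebraMap K[X] (FractionRing K[X]) (d e a p))
    {h : Spec (CommRingCat.of K[X]) ⟶ Y}
    (hh : h ≫ f = Spec.map (CommRingCat.ofHom (algebraMap k K[X])))
    (s : Γ(CohB1.tensorPow L n, ⊤)) :
    ∃ p : K[X],
      val f hL hLF (Spec.map (CommRingCat.ofHom (algebraMap K[X] (FractionRing K[X]))) ≫ h)
        (line_over f _ tau_algebraMap hh) DF s = algebraMap K[X] (FractionRing K[X]) p ∧
      val f hL hLF (Spec.map (CommRingCat.ofHom (evalRingHom (0 : K))) ≫ h)
        (line_over f _ eval0_algebraMap hh) δ s = p.eval 0 := by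
  set F := FractionRing K[X]
  set τ := algebraMap K[X] F
  have hτ : Function.Injective τ := IsFractionRing.injective K[X] F
  have loc : ∀ (q : Ideal K[X]) [q.IsPrime],
      ∃ (DC : Fin n → Fin i → Derivation k (Localization.AtPrime q) (Localization.AtPrime q))
        (ψ : Localization.AtPrime q →+* F) (x : Localization.AtPrime q),
        (∀ e a p, DC e a (algebraMap K[X] (Localization.AtPrime q) p) =
          algebraMap K[X] (Localization.AtPrime q) (d e a p)) ∧
        (∀ p, ψ (algebraMap K[X] (Localization.AtPrime q) p) = τ p) ∧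
        val f hL hLF (Spec.map (CommRingCat.ofHom τ) ≫ h) (line_over f _ tau_algebraMap hh) DF s =
          ψ x ∧
        val f hL hLF (Spec.map (CommRingCat.ofHom (algebraMap K[X] (Localization.AtPrime q))) ≫ h)
          (line_over f _ (IsScalarTower.algebraMap_eq k K[X] (Localization.AtPrime q)).symm hh) DC s =
          x := by
    intro q _
    let C := Localization.AtPrime q
    haveI : Algebra.FormallyEtale K[X] C :=
      Algebra.FormallyEtale.of_isLocalization (Rₘ := C) q.primeCompl
    choose DC hDC using fun e a => exists_extend_der k (C := C)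
      ((Algebra.linearMap K[X] C).compDer (d e a))
    have hu : ∀ y : q.primeCompl, IsUnit (τ y) := fun y => isUnit_iff_ne_zero.2 fun h0 =>
      y.2 (by rw [hτ (h0.trans (map_zero τ).symm)]; exact q.zero_mem)
    let ψ : C →+* F := IsLocalization.lift hu
    have hψ : ∀ p, ψ (algebraMap K[X] C p) = τ p := IsLocalization.lift_eq hu
    have hψk : ψ.comp (algebraMap k C) = algebraMap k F := lift_comp_algebraMap _ hu tau_algebraMap
    have hcomm : ∀ e a x, DF e a (ψ x) = ψ (DC e a x) := fun e a =>
      comm_of_isLocalization q.primeCompl ψ _ _ fun p => by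
        rw [hψ, hDC]
        exact (hDF e a p).trans (hψ _).symm
    refine ⟨DC, ψ, _, hDC, hψ, ?_, rfl⟩
    have hC := line_over f (algebraMap K[X] C) (IsScalarTower.algebraMap_eq k K[X] C).symm hh
    have e : Spec.map (CommRingCat.ofHom ψ) ≫ Spec.map (CommRingCat.ofHom (algebraMap K[X] C)) ≫ h =
        Spec.map (CommRingCat.ofHom τ) ≫ h := by
      rw [← Spec.map_comp_assoc, ← CommRingCat.ofHom_comp]
      congr 3
      exact RingHom.ext hψ
    rw [← val_comp f hL hLF _ hC ψ (by
      rw [Category.assoc, hC, ← Spec.map_comp, ← CommRingCat.ofHom_comp, hψk]) hcomm s]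
    exact val_congr f hL hLF _ _ e.symm _ _ _
  obtain ⟨p, hp⟩ := mem_range_of_local (A := K[X]) (F := F)
    (v := val f hL hLF (Spec.map (CommRingCat.ofHom τ) ≫ h) (line_over f _ tau_algebraMap hh) DF s)
    fun q hq => by
      haveI := hq.isPrime
      obtain ⟨DC, ψ, x, -, hψ, hx, -⟩ := loc q
      obtain ⟨⟨a, b⟩, hab⟩ := IsLocalization.surj q.primeCompl x
      exact ⟨a, b, b.2, by rw [hx, ← hψ, ← hψ, ← map_mul, mul_comm, hab]⟩
  refine ⟨p, hp.symm, ?_⟩
  let q : Ideal K[X] := RingHom.ker (evalRingHom (0 : K))
  haveI : q.IsPrime := RingHom.ker_isPrime _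
  obtain ⟨DC, ψ, x, hDC, hψ, hx, hx'⟩ := loc q
  have hψinj : Function.Injective ψ := by
    rw [injective_iff_map_eq_zero]
    intro y hy
    obtain ⟨⟨a, b⟩, hab⟩ := IsLocalization.surj q.primeCompl y
    have ha : τ a = 0 := by rw [← hψ, ← hab, map_mul, hy, zero_mul]
    rw [hτ (ha.trans (map_zero τ).symm), map_zero] at hab
    exact (IsLocalization.map_units _ b).mul_left_eq_zero.1 hab
  have hxp : x = algebraMap K[X] _ p := hψinj (by rw [hψ, ← hx, hp])
  have hu : ∀ y : q.primeCompl, IsUnit (evalRingHom (0 : K) y) := fun y => isUnit_iff_ne_zero.2 y.2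
  let ε : Localization.AtPrime q →+* K := IsLocalization.lift hu
  have hε : ∀ r, ε (algebraMap K[X] (Localization.AtPrime q) r) = r.eval 0 := IsLocalization.lift_eq hu
  have hcomm : ∀ e a y, δ e a (ε y) = ε (DC e a y) := fun e a =>
    comm_of_isLocalization q.primeCompl ε _ _ fun r => by
      rw [hε, hDC, hε, ← coeff_zero_eq_eval_zero, ← coeff_zero_eq_eval_zero, hd]
  have hC := line_over f (algebraMap K[X] (Localization.AtPrime q))
    (IsScalarTower.algebraMap_eq k K[X] _).symm hh
  have e : Spec.map (CommRingCat.ofHom ε) ≫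
      Spec.map (CommRingCat.ofHom (algebraMap K[X] (Localization.AtPrime q))) ≫ h =
      Spec.map (CommRingCat.ofHom (evalRingHom (0 : K))) ≫ h := by
    rw [← Spec.map_comp_assoc, ← CommRingCat.ofHom_comp]
    congr 3
    exact RingHom.ext hε
  rw [← hε, ← hxp, ← hx', ← val_comp f hL hLF _ hC ε (by
    rw [Category.assoc, hC, ← Spec.map_comp, ← CommRingCat.ofHom_comp,
      lift_comp_algebraMap _ hu eval0_algebraMap]) hcomm s]
  exact val_congr f hL hLF _ _ e.symm _ _ _

theorem transcendental_X : Transcendental K (algebraMap K[X] (FractionRing K[X]) X) := by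
  rw [transcendental_iff_injective]
  have h : aeval (algebraMap K[X] (FractionRing K[X]) X) =
      IsScalarTower.toAlgHom K K[X] (FractionRing K[X]) := Polynomial.algHom_ext (by simp)
  rw [h]
  exact IsFractionRing.injective K[X] (FractionRing K[X])

/-- The involution inverting the coordinate. -/
theorem exists_invol :
    ∃ σ : FractionRing K[X] →+* FractionRing K[X], ∀ p,
      σ (algebraMap K[X] (FractionRing K[X]) p) =
        aeval (algebraMap K[X] (FractionRing K[X]) X)⁻¹ p := by
  have hinj : Function.Injective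
      (aeval (R := K) (algebraMap K[X] (FractionRing K[X]) X)⁻¹).toRingHom :=
    transcendental_iff_injective.mp fun h => transcendental_X (IsAlgebraic.inv_iff.mp h)
  exact ⟨IsFractionRing.lift hinj, IsFractionRing.lift_algebraMap hinj⟩

/-- Two maps of the line that agree after inverting the coordinate take equal values at the origins. -/
theorem val_two_lines {h₁ h₂ : Spec (CommRingCat.of K[X]) ⟶ Y}
    (hh₁ : h₁ ≫ f = Spec.map (CommRingCat.ofHom (algebraMap k K[X])))
    (hh₂ : h₂ ≫ f = Spec.map (CommRingCat.ofHom (algebraMap k K[X])))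
    (σ : FractionRing K[X] →+* FractionRing K[X])
    (hσ : ∀ p, σ (algebraMap K[X] (FractionRing K[X]) p) =
      aeval (algebraMap K[X] (FractionRing K[X]) X)⁻¹ p)
    (hgen : Spec.map (CommRingCat.ofHom (algebraMap K[X] (FractionRing K[X]))) ≫ h₁ =
      Spec.map (CommRingCat.ofHom σ) ≫
        Spec.map (CommRingCat.ofHom (algebraMap K[X] (FractionRing K[X]))) ≫ h₂)
    (s : Γ(CohB1.tensorPow L n, ⊤)) :
    val f hL hLF (Spec.map (CommRingCat.ofHom (evalRingHom (0 : K))) ≫ h₁)
        (line_over f _ eval0_algebraMap hh₁) δ s =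
      val f hL hLF (Spec.map (CommRingCat.ofHom (evalRingHom (0 : K))) ≫ h₂)
        (line_over f _ eval0_algebraMap hh₂) δ s := by
  set F := FractionRing K[X]
  set τ := algebraMap K[X] F
  choose d hd using fun e a => exists_coeff_der (δ e a)
  haveI : Algebra.FormallyEtale K[X] F :=
    Algebra.FormallyEtale.of_isLocalization (Rₘ := F) (nonZeroDivisors K[X])
  choose DF hDF using fun e a => exists_extend_der k (C := F)
    ((Algebra.linearMap K[X] F).compDer (d e a))
  replace hDF : ∀ e a p, DF e a (τ p) = τ (d e a p) := hDF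
  have hdC : ∀ e a r, d e a (C r) = C (δ e a r) := fun e a r => Polynomial.ext fun m => by
    rw [hd, coeff_C, coeff_C]; split_ifs <;> simp
  have hdX : ∀ e a, d e a X = 0 := fun e a => Polynomial.ext fun m => by
    rw [hd, coeff_X, coeff_zero]; split_ifs <;> simp
  have hDinv : ∀ e a, DF e a (τ X)⁻¹ = 0 := fun e a => by
    have h := hDF e a X
    rw [hdX, map_zero] at h
    rw [Derivation.leibniz_inv, h, smul_zero]
  have hC : ∀ r : K, algebraMap K F r = τ (C r) := fun r => IsScalarTower.algebraMap_apply K K[X] F r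
  have hσD : ∀ e a x, DF e a (σ x) = σ (DF e a x) := fun e a =>
    comm_of_isLocalization (nonZeroDivisors K[X]) σ _ _ fun p => by
      show DF e a (σ (τ p)) = σ (DF e a (τ p))
      rw [hDF, hσ, hσ]
      induction p using Polynomial.induction_on with
      | C r => rw [aeval_C, hdC, aeval_C, hC, hDF, hdC, hC]
      | add p q hp hq => simp only [map_add, hp, hq]
      | monomial m r hp =>
        rw [pow_succ, ← mul_assoc, map_mul, Derivation.leibniz, aeval_X, hDinv, smul_zero, zero_add,
          smul_eq_mul, hp, (d e a).leibniz (C r * Polynomial.X ^ m) Polynomial.X, hdX, smul_zero, zero_add, smul_eq_mul, map_mul (aeval (τ Polynomial.X)⁻¹), aeval_X]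
  have hσk : σ.comp (algebraMap k F) = algebraMap k F := RingHom.ext fun r => by
    show σ (algebraMap k F r) = _
    rw [IsScalarTower.algebraMap_apply k K[X] F, hσ, IsScalarTower.algebraMap_apply k K K[X], Polynomial.algebraMap_eq, aeval_C, hC]
  obtain ⟨p₁, hp₁, he₁⟩ := exists_poly_val f hL hLF δ d hd DF hDF hh₁ s
  obtain ⟨p₂, hp₂, he₂⟩ := exists_poly_val f hL hLF δ d hd DF hDF hh₂ s
  have hF := line_over f τ tau_algebraMap hh₂
  have key : τ p₁ = aeval (τ X)⁻¹ p₂ := by
    rw [← hσ, ← hp₁, ← hp₂, ← val_comp f hL hLF _ hF σ (by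
      rw [Category.assoc, hF, ← Spec.map_comp, ← CommRingCat.ofHom_comp, hσk]) hσD s]
    exact val_congr f hL hLF _ _ hgen _ _ _
  have haev : aeval (τ X) p₁ = τ p₁ := by
    rw [aeval_algebraMap_apply, aeval_X_left_apply]
  obtain ⟨c, rfl, rfl⟩ := eq_C_of_aeval_inv transcendental_X (haev.trans key)
  rw [he₁, he₂]

end Groth.L16.RTrivForms
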