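import Groth.Agent.L16.RTrivForms.Line
import Groth.Agent.L11.REq.P1Spread
import Groth.Agent.L11.REq.ProjLine

/-!
# Values are invariant under R-links
-/

set_option autoImplicit false
set_option linter.style.haveILetI false
set_option linter.unusedSectionVars false
set_option backward.isDefEq.respectTransparency false
set_option backward.isDefEq.respectTransparency.types false

universe u

open CategoryTheory AlgebraicGeometry Polynomial
open Groth.L18.PS Groth.L11.REqHom CohB1

noncomputable section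

namespace Groth.L16.RTrivForms

section Geom

variable (K : Type u) [Field K]

/-- A linear form with prescribed coefficients. -/
def linForm (u v : K) : MvPolynomial (Fin (1 + 1)) K :=
  u • MvPolynomial.X 0 + v • MvPolynomial.X 1

theorem linForm_mem (u v : K) : linForm K u v ∈ polyGrading 1 K 1 :=
  add_mem (Submodule.smul_mem _ _ (X_mem 1 0)) (Submodule.smul_mem _ _ (X_mem 1 1))

variable {K}

theorem eval_linForm {B : Type u} [CommRing B] (σ : K →+* B) (w : Fin (1 + 1) → B) (u v : K) :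
    MvPolynomial.eval₂Hom σ w (linForm K u v) = σ u * w 0 + σ v * w 1 := by
  simp [linForm, MvPolynomial.smul_eq_C_mul]

theorem smul_eq_of_det {a b : Fin (1 + 1) → K} (h : a 0 * b 1 = a 1 * b 0) :
    ∀ i j : Fin (1 + 1), a i * b j = a j * b i := fun i j => by
  rcases (show i = 0 ∨ i = 1 by fin_cases i <;> simp) with rfl | rfl <;>
    rcases (show j = 0 ∨ j = 1 by fin_cases j <;> simp) with rfl | rfl
  · rfl
  · exact h
  · exact h.symm
  · rfl

/-- Two points of the line are equal, or are the origins of two inverse parametrisations. -/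
theorem exists_two_lines (a b : Spec (CommRingCat.of K) ⟶ ProjSpace 1 K)
    (ha : a ≫ ProjSpace.toSpec 1 K = 𝟙 _) (hb : b ≫ ProjSpace.toSpec 1 K = 𝟙 _) :
    a = b ∨ ∃ (g₁ g₂ : Spec (CommRingCat.of K[X]) ⟶ ProjSpace 1 K)
      (σ : FractionRing K[X] →+* FractionRing K[X]),
      g₁ ≫ ProjSpace.toSpec 1 K = Spec.map (CommRingCat.ofHom C) ∧
      g₂ ≫ ProjSpace.toSpec 1 K = Spec.map (CommRingCat.ofHom C) ∧
      (∀ p, σ (algebraMap K[X] (FractionRing K[X]) p) =
        aeval (algebraMap K[X] (FractionRing K[X]) X)⁻¹ p) ∧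
      Spec.map (CommRingCat.ofHom (algebraMap K[X] (FractionRing K[X]))) ≫ g₁ =
        Spec.map (CommRingCat.ofHom σ) ≫
          Spec.map (CommRingCat.ofHom (algebraMap K[X] (FractionRing K[X]))) ≫ g₂ ∧
      Spec.map (CommRingCat.ofHom (evalRingHom (0 : K))) ≫ g₁ = a ∧
      Spec.map (CommRingCat.ofHom (evalRingHom (0 : K))) ≫ g₂ = b := by
  have hid : REq.specMap K K = 𝟙 _ := by simp [REq.specMap]
  obtain ⟨ca, i, hi, rfl⟩ := exists_projCoord (k := K) K a (ha.trans hid.symm)
  obtain ⟨cb, j, hj, rfl⟩ := exists_projCoord (k := K) K b (hb.trans hid.symm)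
  by_cases hdet : ca 0 * cb 1 = ca 1 * cb 0
  · left
    have hp := smul_eq_of_det hdet
    have hcj : cb i ≠ 0 := fun h0 => by
      have := hp i j
      rw [h0, mul_zero] at this
      exact (mul_ne_zero hi.ne_zero hj.ne_zero) this
    refine ((tuplePt_smul (B := CommRingCat.of K) (algebraMap K K) ca (cb i / ca i) i i
      (isUnit_iff_ne_zero.2 (mul_ne_zero (div_ne_zero hcj hi.ne_zero) hi.ne_zero)) hi).symm).trans ?_
    refine tuplePt_congr (B := CommRingCat.of K) _ (fun m => ?_) i j _ _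
    rw [div_mul_eq_mul_div, div_eq_iff hi.ne_zero]
    linear_combination -(hp i m)
  right
  set D := ca 0 * cb 1 - ca 1 * cb 0
  have hD : D ≠ 0 := sub_ne_zero.2 hdet
  let p := linForm K (cb 1 / D) (-(cb 0) / D)
  let q := linForm K (-(ca 1) / D) (ca 0 / D)
  have hp := linForm_mem K (cb 1 / D) (-(cb 0) / D)
  have hq := linForm_mem K (-(ca 1) / D) (ca 0 / D)
  let w₁ : Fin (1 + 1) → K[X] := fun m => C (ca m) + X * C (cb m)
  let w₂ : Fin (1 + 1) → K[X] := fun m => X * C (ca m) + C (cb m)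
  have f1 : cb 1 / D * ca 0 + -(cb 0) / D * ca 1 = 1 := by
    field_simp; simp only [D]; ring
  have f2 : cb 1 / D * cb 0 + -(cb 0) / D * cb 1 = 0 := by ring
  have f3 : -(ca 1) / D * cb 0 + ca 0 / D * cb 1 = 1 := by
    field_simp; simp only [D]; ring
  have f4 : -(ca 1) / D * ca 0 + ca 0 / D * ca 1 = 0 := by ring
  have hw₁ : MvPolynomial.eval₂Hom (C : K →+* K[X]) w₁ p = 1 := by
    rw [eval_linForm]
    calc C (cb 1 / D) * (C (ca 0) + X * C (cb 0)) + C (-(cb 0) / D) * (C (ca 1) + X * C (cb 1))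
        = C (cb 1 / D * ca 0 + -(cb 0) / D * ca 1) +
            X * C (cb 1 / D * cb 0 + -(cb 0) / D * cb 1) := by simp only [map_add, map_mul]; ring
      _ = 1 := by rw [f1, f2, map_one, map_zero, mul_zero, add_zero]
  have hw₂ : MvPolynomial.eval₂Hom (C : K →+* K[X]) w₂ q = 1 := by
    rw [eval_linForm]
    calc C (-(ca 1) / D) * (X * C (ca 0) + C (cb 0)) + C (ca 0 / D) * (X * C (ca 1) + C (cb 1))
        = C (-(ca 1) / D * cb 0 + ca 0 / D * cb 1) +
            X * C (-(ca 1) / D * ca 0 + ca 0 / D * ca 1) := by simp only [map_add, map_mul]; ring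
      _ = 1 := by rw [f3, f4, map_one, map_zero, mul_zero, add_zero]
  obtain ⟨σ, hσ⟩ := exists_invol (K := K)
  have u₁ : IsUnit (MvPolynomial.eval₂Hom (C : K →+* K[X]) w₁ p) := by rw [hw₁]; exact isUnit_one
  have u₂ : IsUnit (MvPolynomial.eval₂Hom (C : K →+* K[X]) w₂ q) := by rw [hw₂]; exact isUnit_one
  refine ⟨formPt (B := CommRingCat.of K[X]) C w₁ p hp u₁, formPt (B := CommRingCat.of K[X]) C w₂ q hq u₂,
    σ, formPt_toSpec _ _ _ _ _, formPt_toSpec _ _ _ _ _, hσ, ?_, ?_, ?_⟩
  · let F := FractionRing K[X]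
    let τ := algebraMap K[X] F
    have hC : ∀ r : K, τ (C r) = algebraMap K F r := fun r =>
      (IsScalarTower.algebraMap_apply K K[X] F r).symm
    have v₁ : IsUnit (MvPolynomial.eval₂Hom (τ.comp C) (τ ∘ w₁) p) := by
      have := u₁.map τ
      rwa [MvPolynomial.map_eval₂Hom] at this
    have v₂ : IsUnit (MvPolynomial.eval₂Hom ((σ.comp τ).comp C) (σ.comp τ ∘ w₂) q) := by
      have := u₂.map (σ.comp τ)
      rwa [MvPolynomial.map_eval₂Hom] at this
    obtain ⟨m, hm⟩ : ∃ m, IsUnit ((τ ∘ w₁) m) := by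
      by_contra hne
      push Not at hne
      refine v₁.ne_zero ?_
      rw [eval_linForm, not_not.1 (isUnit_iff_ne_zero.not.1 (hne 0)),
        not_not.1 (isUnit_iff_ne_zero.not.1 (hne 1)), mul_zero, mul_zero, add_zero]
    have ht : τ X ≠ 0 := fun h => X_ne_zero
      (IsFractionRing.injective K[X] F (h.trans (map_zero τ).symm))
    have hsc : ∀ l, (σ.comp τ) (w₂ l) = (τ X)⁻¹ * τ (w₁ l) := fun l => by
      show σ (τ _) = _
      rw [hσ]
      simp only [w₁, w₂, map_add, map_mul, aeval_X, aeval_C, hC, τ, F]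
      rw [mul_add, inv_mul_cancel_left₀ (by exact ht), inv_mul_eq_div]
    have hcm : (σ.comp τ).comp C = τ.comp C := RingHom.ext fun r => by
      show σ (τ (C r)) = τ (C r)
      rw [hσ, aeval_C, hC]
    have hm' : IsUnit ((τ X)⁻¹ * (τ ∘ w₁) m) := (isUnit_iff_ne_zero.2 (inv_ne_zero ht)).mul hm
    rw [← Spec.map_comp_assoc, ← CommRingCat.ofHom_comp,
      SpecMap_formPt (CommRingCat.ofHom τ) _ _ _ _ _ v₁,
      SpecMap_formPt (CommRingCat.ofHom (σ.comp τ)) _ _ _ _ _ v₂,
      formPt_eq_tuplePt _ _ _ _ _ m (by exact hm)]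
    have hm2 : IsUnit ((σ.comp τ ∘ w₂) m) := by
      show IsUnit ((σ.comp τ) (w₂ m)); rw [hsc]; exact hm'
    rw [formPt_eq_tuplePt _ _ _ _ _ m (by exact hm2)]
    simp only [CommRingCat.hom_ofHom, hcm]
    refine ((tuplePt_smul (B := CommRingCat.of F) (τ.comp C) (τ ∘ w₁) (τ X)⁻¹ m m hm' hm).symm).trans ?_
    exact tuplePt_congr (B := CommRingCat.of F) _ (fun l => (hsc l).symm) m m _ _
  · have v : IsUnit (MvPolynomial.eval₂Hom ((evalRingHom (0 : K)).comp C) (evalRingHom 0 ∘ w₁) p) := by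
      have := u₁.map (evalRingHom (0 : K))
      rwa [MvPolynomial.map_eval₂Hom] at this
    have e1 : (evalRingHom (0 : K)).comp C = algebraMap K K := RingHom.ext fun r => by simp
    have e2 : evalRingHom (0 : K) ∘ w₁ = ca := funext fun m => by simp [w₁]
    rw [SpecMap_formPt (CommRingCat.ofHom (evalRingHom (0 : K))) _ _ _ _ _ v]
    simp only [CommRingCat.hom_ofHom, e1, e2]
    exact formPt_eq_tuplePt (B := CommRingCat.of K) _ _ _ _ _ i hi
  · have v : IsUnit (MvPolynomial.eval₂Hom ((evalRingHom (0 : K)).comp C) (evalRingHom 0 ∘ w₂) q) := by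
      have := u₂.map (evalRingHom (0 : K))
      rwa [MvPolynomial.map_eval₂Hom] at this
    have e1 : (evalRingHom (0 : K)).comp C = algebraMap K K := RingHom.ext fun r => by simp
    have e2 : evalRingHom (0 : K) ∘ w₂ = cb := funext fun m => by simp [w₂]
    rw [SpecMap_formPt (CommRingCat.ofHom (evalRingHom (0 : K))) _ _ _ _ _ v]
    simp only [CommRingCat.hom_ofHom, e1, e2]
    exact formPt_eq_tuplePt (B := CommRingCat.of K) _ _ _ _ _ j hj

end Geom

variable {k : Type u} [Field k] {Y : Scheme.{u}} (f : Y ⟶ Spec (CommRingCat.of k)) [IsProper f]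
  {i : ℕ} {L : Y.Modules} (hL : ExtPow.IsExtPow i (Omega.sheaf f) L) (hLF : FlatMod.IsFinLocFree L)
  {K : Type u} [Field K] [Algebra k K] {n : ℕ} (δ : Fin n → Fin i → Derivation k K K)
  (s : Γ(CohB1.tensorPow L n, ⊤))

/-- Directly linked points take equal values. -/
theorem val_elemLink {A B : REq.Pts f K} (h : REq.ElemLink f K A B) :
    val f hL hLF A.1 A.2 δ s = val f hL hLF B.1 B.2 δ s := by
  obtain ⟨U, h, a, b, hh, ha, hb, hA, hB⟩ := h
  obtain ⟨hbar, hbar1, hbar2⟩ := exists_extend_P1 K f (REq.P1K.toSpec K ≫ REq.specMap k K) U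
    ⟨(a (IsLocalRing.closedPoint K)).1, (a (IsLocalRing.closedPoint K)).2⟩ h hh
  let e := Groth.L16.ProjSpace.isoOver 1 K
  have he : e.inv ≫ ProjSpace.toSpec 1 K = REq.P1K.toSpec K := by
    rw [Iso.inv_comp_eq]
    exact (Groth.L16.ProjSpace.isoOver_hom_toBase 1).symm
  have he' : e.hom ≫ REq.P1K.toSpec K = ProjSpace.toSpec 1 K :=
    Groth.L16.ProjSpace.isoOver_hom_toBase 1
  have hA' : (a ≫ U.ι ≫ e.inv) ≫ e.hom ≫ hbar = A.1 := by
    simp only [Category.assoc, Iso.inv_hom_id_assoc, hbar2, hA]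
  have hB' : (b ≫ U.ι ≫ e.inv) ≫ e.hom ≫ hbar = B.1 := by
    simp only [Category.assoc, Iso.inv_hom_id_assoc, hbar2, hB]
  rcases exists_two_lines (a ≫ U.ι ≫ e.inv) (b ≫ U.ι ≫ e.inv)
      (by rw [Category.assoc, Category.assoc, he, ha]) (by rw [Category.assoc, Category.assoc, he, hb])
    with heq | ⟨g₁, g₂, σ, hg₁, hg₂, hσ, hgen, h0a, h0b⟩
  · exact val_congr f hL hLF _ _ (hA'.symm.trans ((congrArg (· ≫ _) heq).trans hB')) _ _ _
  have hover : ∀ g : Spec (CommRingCat.of K[X]) ⟶ ProjSpace 1 K,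
      g ≫ ProjSpace.toSpec 1 K = Spec.map (CommRingCat.ofHom C) →
      (g ≫ e.hom ≫ hbar) ≫ f = Spec.map (CommRingCat.ofHom (algebraMap k K[X])) := fun g hg => by
    rw [Category.assoc, Category.assoc, hbar1, reassoc_of% he', reassoc_of% hg, ← Spec.map_comp,
      ← CommRingCat.ofHom_comp]
    congr 2
  have key := val_two_lines f hL hLF δ (hover g₁ hg₁) (hover g₂ hg₂) σ hσ
    (by rw [← Category.assoc, hgen, Category.assoc, Category.assoc]) s
  refine (val_congr f hL hLF _ _ ?_ _ _ _).trans (key.trans (val_congr f hL hLF _ _ ?_ _ _ _))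
  · rw [← Category.assoc, h0a, hA']
  · rw [← Category.assoc, h0b, hB']

/-- R-equivalent points take equal values. -/
theorem val_rEquiv {A B : REq.Pts f K} (h : REq.REquiv f K A B) :
    val f hL hLF A.1 A.2 δ s = val f hL hLF B.1 B.2 δ s := by
  induction h with
  | rel P Q h => exact val_elemLink f hL hLF δ s h
  | refl P => rfl
  | symm P Q _ ih => exact ih.symm
  | trans P Q R _ _ i1 i2 => exact i1.trans i2

end Groth.L16.RTrivForms
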