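import Groth.Agent.L16.RTrivForms.Link
import Groth.Agent.L16.RTrivForms.Detect
import Groth.Agent.L14.DefLift.LocTriv.SmoothRigid

/-!
# Almost R-trivial varieties have no covariant tensor forms
-/

set_option autoImplicit false
set_option linter.style.haveILetI false
set_option backward.isDefEq.respectTransparency false
set_option backward.isDefEq.respectTransparency.types false

universe u

open CategoryTheory AlgebraicGeometry TopologicalSpace Opposite
open Groth.L18.Frame (rs ro rs_rs rs_self)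
open Groth.L12.FrobLift (baseHom)

noncomputable section

namespace Groth.L16.RTrivForms

variable {k : Type u} [Field k] {X : Scheme.{u}} (f : X ⟶ Spec (CommRingCat.of k))

theorem fromSpec_over {W : X.Opens} (hW : IsAffineOpen W) :
    hW.fromSpec ≫ f = Spec.map (CommRingCat.ofHom (baseHom f W)) := by
  rw [← (isAffineOpen_top _).SpecMap_appLE_fromSpec f hW le_top, IsAffineOpen.fromSpec_top,
    Scheme.isoSpec_Spec_inv, ← Spec.map_comp]
  rfl

theorem ptHom_fromSpec {W : X.Opens} (hW : IsAffineOpen W) (h : ⊤ ≤ hW.fromSpec ⁻¹ᵁ W) (b : Γ(X, W)) :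
    ptHom (C := Γ(X, W)) hW.fromSpec W h b = b := by
  have h1 : hW.fromSpec.appLE W ⊤ h = (Scheme.ΓSpecIso Γ(X, W)).inv := by
    rw [Scheme.Hom.appLE, hW.fromSpec_app_self, Category.assoc, ← Functor.map_comp]
    exact (congrArg ((Scheme.ΓSpecIso Γ(X, W)).inv ≫ ·) ((Spec Γ(X, W)).presheaf.map_id _)).trans
      (Category.comp_id _)
  show (Scheme.ΓSpecIso Γ(X, W)).hom (hW.fromSpec.appLE W ⊤ h b) = b
  rw [h1]
  exact congr($((Scheme.ΓSpecIso Γ(X, W)).inv_hom_id) b)

theorem subsingleton_sections [IsIntegral X] [IsProper f] [Smooth f] (hR : REq.IsAlmostRTrivial f)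
    (i m : ℕ) (hi : 0 < i) (hm : 0 < m) (L : X.Modules)
    (hL : ExtPow.IsExtPow i (Omega.sheaf f) L) :
    Subsingleton ((CohB1.tensorPow L m).val.obj (op ⊤)) := by
  have hΩ : FlatMod.IsFinLocFree (Omega.sheaf f) := Groth.L14.LocTriv.isFinLocFree_omega' f
  have hLF : FlatMod.IsFinLocFree L := Groth.L12.ExtSh.isFinLocFree_of_isExtPow hΩ hL
  obtain ⟨U, hUd, hU⟩ := hR
  obtain ⟨⟨x₀, hx₀⟩, -⟩ := hU k
  obtain ⟨u₀, hu₀⟩ := hUd.nonempty
  have hηU : genericPoint X ∈ U := (genericPoint_specializes u₀).mem_open U.2 hu₀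
  suffices h : ∀ s : Γ(CohB1.tensorPow L m, ⊤), s = 0 from
    ⟨fun a b => (h a).trans (h b).symm⟩
  intro s
  have hloc : ∀ x : X, ∃ W : X.Opens, x ∈ W ∧ rs (CohB1.tensorPow L m) le_top s =
      (0 : Γ(CohB1.tensorPow L m, W)) := fun x => by
    obtain ⟨O, r, b, hO, hxO, -, hb⟩ := Groth.L19.ProjBdl.exists_basisOn hΩ x ⊤ trivial
    obtain ⟨W, hxW, hWO, hG⟩ := exists_good_le hLF x O hxO
    refine ⟨W, hxW, ?_⟩
    haveI : Nonempty W := ⟨⟨x, hxW⟩⟩
    letI := (baseHom f W).toAlgebra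
    let F := FractionRing Γ(X, W)
    let g : Spec (CommRingCat.of F) ⟶ X :=
      Spec.map (CommRingCat.ofHom (algebraMap Γ(X, W) F)) ≫ hG.1.fromSpec
    have hg : g ≫ f = Spec.map (CommRingCat.ofHom (algebraMap k F)) := by
      rw [Category.assoc, fromSpec_over, ← Spec.map_comp, ← CommRingCat.ofHom_comp]
      congr 2
    have hW : ⊤ ≤ hG.1.fromSpec ⁻¹ᵁ W := hG.1.fromSpec_preimage_self.ge
    have hgW : ⊤ ≤ g ⁻¹ᵁ W := fun y _ =>
      hW (x := Spec.map (CommRingCat.ofHom (algebraMap Γ(X, W) F)) y) trivial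
    have hpt : ∀ b, ptHom g W hgW b = algebraMap Γ(X, W) F b := fun b => by
      rw [ptHom_comp (C := Γ(X, W)) hG.1.fromSpec _ hW hgW b, ptHom_fromSpec]
    haveI : IsDomain Γ(X, W) := inferInstance
    refine eq_zero_of_evG f (ptHom_compat f hg hgW) hL hG (hb.mono hWO)
      (by rw [show ptHom g W hgW = algebraMap Γ(X, W) F from RingHom.ext hpt,
            toAlgebra_algebraMap]; infer_instance) _ fun E => ?_
    rw [← val_eq f hL hLF g hg hgW hG]
    -- the generic point is R-equivalent to a rational point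
    let P : REq.Pts f F := ⟨g, hg⟩
    let Q : REq.Pts f F := ⟨REq.specMap k F ≫ x₀.1, by
      rw [Category.assoc, x₀.2, show REq.specMap k k = 𝟙 _ by simp [REq.specMap], Category.comp_id]⟩
    have hP : REq.InOpen f U P := by
      rintro _ ⟨t, rfl⟩
      have ht : Spec.map (CommRingCat.ofHom (algebraMap Γ(X, W) F)) t =
          genericPoint (Spec Γ(X, W)) := by
        have htb : t.asIdeal = ⊥ := (Ideal.eq_bot_or_top (K := F) t.asIdeal).resolve_right t.isPrime.ne_top
        refine Eq.trans ?_ (genericPoint_eq_bot_of_affine Γ(X, W)).symm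
        refine PrimeSpectrum.ext ?_
        show Ideal.comap (algebraMap Γ(X, W) F) t.asIdeal = ⊥
        rw [htb]
        exact Ideal.comap_bot_of_injective _ (IsFractionRing.injective Γ(X, W) F)
      show g t ∈ U
      rw [show g t = hG.1.fromSpec (Spec.map (CommRingCat.ofHom (algebraMap Γ(X, W) F)) t) from rfl, ht,
        genericPoint_eq_of_isOpenImmersion hG.1.fromSpec]
      exact hηU
    have hQ : REq.InOpen f U Q := by
      rintro _ ⟨t, rfl⟩
      exact hx₀ ⟨REq.specMap k F t, rfl⟩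
    refine (val_rEquiv f hL hLF E s ((hU F).2 P Q hP hQ)).trans ?_
    have hx₀f : x₀.1 ≫ f = Spec.map (CommRingCat.ofHom (algebraMap k k)) := x₀.2
    refine (val_comp f hL hLF x₀.1 hx₀f (algebraMap k F) Q.2 (D := 0) (fun e a z => ?_) s).trans ?_
    · rw [Derivation.map_algebraMap]
      exact (map_zero _).symm
    · rw [val_zero f hL hLF x₀.1 hx₀f hi hm, map_zero]
  choose W hxW hW using hloc
  let OM : TopCat.Sheaf Ab.{u} X.toTopCat :=
    ⟨(CohB1.tensorPow L m).presheaf, (CohB1.tensorPow L m).isSheaf⟩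
  exact OM.eq_of_locally_eq' W ⊤ (fun x => homOfLE le_top)
    (fun x _ => Opens.mem_iSup.mpr ⟨x, hxW x⟩) s 0 fun x => (hW x).trans (map_zero _).symm

end Groth.L16.RTrivForms
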