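import Groth.Agent.L16.RTrivForms.Ev

/-!
# Evaluating tensor powers
-/

set_option autoImplicit false
set_option linter.style.haveILetI false
set_option linter.unusedSectionVars false
set_option backward.isDefEq.respectTransparency false
set_option backward.isDefEq.respectTransparency.types false

universe u

open CategoryTheory MonoidalCategory CategoryTheory.Limits AlgebraicGeometry TopologicalSpace Opposite
open Groth.L18.Frame (rs ro rs_rs ro_ro rs_smul rs_self ro_self)
open Groth.L19.ProjBdl (IsBasisOn lc tens_sum_left)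
open Groth.L18.GenLoc (tens tens_rs tens_smul_left tens_smul_right)

noncomputable section

namespace Groth.L16.RTrivForms

section Coord

variable {X : Scheme.{u}} {M L : X.Modules} {V : X.Opens} {d : ℕ} {c : Fin d → Γ(L, V)}
  (hc : IsBasisOn L V c)

theorem tens_sum_right {U : X.Opens} {ι : Type*} (t : Finset ι) (m : Γ(M, U)) (n : ι → Γ(L, U)) :
    tens M L U m (∑ i ∈ t, n i) = ∑ i ∈ t, tens M L U m (n i) :=
  map_sum (AddMonoidHom.mk' (fun x => tens M L U m x) fun x y => Groth.L00.Tensor.ev_add₂ (Groth.L00.Tensor.unit (Groth.L00.Tensor.pre M ⊗ Groth.L00.Tensor.pre L)) (op U) m x y) n t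

include hc in
theorem exists_cw (s : Γ(CohB1.tensorMod M L, V)) :
    ∃ w : Fin d → Γ(M, V), ∑ j, tens M L V (w j) (c j) = s := by
  obtain ⟨w, hw⟩ := (Groth.L12.ExtSh.bijective_tens_family (M := M) hc le_rfl).2 s
  exact ⟨w, by simpa [rs_self] using hw⟩

/-- Coordinates of a tensor along a basis. -/
def cw (s : Γ(CohB1.tensorMod M L, V)) : Fin d → Γ(M, V) := (exists_cw hc s).choose

theorem cw_spec (s : Γ(CohB1.tensorMod M L, V)) : ∑ j, tens M L V (cw hc s j) (c j) = s :=
  (exists_cw hc s).choose_spec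

theorem cw_eq {s : Γ(CohB1.tensorMod M L, V)} {w : Fin d → Γ(M, V)}
    (h : ∑ j, tens M L V (w j) (c j) = s) : cw hc s = w :=
  (Groth.L12.ExtSh.bijective_tens_family (M := M) hc le_rfl).1 (by
    simpa [rs_self] using (cw_spec hc s).trans h.symm)

theorem cw_add (s t : Γ(CohB1.tensorMod M L, V)) : cw hc (s + t) = cw hc s + cw hc t :=
  cw_eq hc (by
    simp only [Pi.add_apply, Groth.L19.ProjBdl.tens_add_left, Finset.sum_add_distrib, cw_spec])

theorem cw_smul (r : Γ(X, V)) (s : Γ(CohB1.tensorMod M L, V)) :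
    cw hc (r • s) = fun j => r • cw hc s j :=
  cw_eq hc (by simp only [tens_smul_left, ← Finset.smul_sum, cw_spec])

include hc in
theorem exists_coeffs (l : Γ(L, V)) : ∃ r : Fin d → Γ(X, V), ∑ j, r j • c j = l := by
  obtain ⟨r, hr⟩ := (hc V le_rfl).2 l
  exact ⟨r, by simpa [lc, rs_self] using hr⟩

end Coord

variable {k : Type u} [Field k] {X : Scheme.{u}} (f : X ⟶ Spec (CommRingCat.of k)) [QuasiSeparated f]
  {V : X.Opens} {C : Type u} [CommRing C] [Algebra k C] {i : ℕ} {L : X.Modules}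
  (φL : ∀ U : X.affineOpens,
    (L.val.obj (op U.1)) ≃ₗ[Γ(X, U.1)] ↥(⋀[Γ(X, U.1)]^i ((Omega.sheaf f).val.obj (op U.1))))
  (hV : IsAffineOpen V) {φ : Γ(X, V) →+* C} (hφ : Compat f φ)
  {d : ℕ} {c : Fin d → Γ(L, V)} (hc : IsBasisOn L V c)

/-- Contraction of a tensor power with a family of derivations. -/
def evN : ∀ n : ℕ, (Fin n → Fin i → Derivation k C C) → (Γ(CohB1.tensorPow L n, V) →ₛₗ[φ] C)
  | 0, _ =>
    { toFun := fun s => φ (show Γ(X, V) from s)
      map_add' := fun a b => φ.map_add _ _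
      map_smul' := fun r a => φ.map_mul _ _ }
  | n + 1, D =>
    { toFun := fun s => ∑ j, evN n (fun e => D e.castSucc) (cw hc (show Γ(CohB1.tensorMod _ L, V) from s) j) *
        ev1 f φL hV hφ (D (Fin.last n)) (c j)
      map_add' := fun a b => by
        simp only [← Finset.sum_add_distrib, ← add_mul]
        refine Finset.sum_congr rfl fun j _ => congrArg (· * _) ?_
        exact (congrArg (evN n _) (congrFun (cw_add hc _ _) j)).trans (map_add _ _ _)
      map_smul' := fun r a => by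
        simp only [smul_eq_mul, Finset.mul_sum]
        refine Finset.sum_congr rfl fun j _ => ?_
        refine (congrArg (· * _) ((congrArg (evN n _) (congrFun (cw_smul hc r _) j)).trans
          (LinearMap.map_smulₛₗ _ _ _))).trans ?_
        exact mul_assoc _ _ _ }

theorem evN_succ (n : ℕ) (D : Fin (n + 1) → Fin i → Derivation k C C)
    (s : Γ(CohB1.tensorMod (CohB1.tensorPow L n) L, V)) :
    evN f φL hV hφ hc (n + 1) D s =
      ∑ j, evN f φL hV hφ hc n (fun e => D e.castSucc) (cw hc s j) *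
        ev1 f φL hV hφ (D (Fin.last n)) (c j) := rfl

theorem evN_tens (n : ℕ) (D : Fin (n + 1) → Fin i → Derivation k C C)
    (w : Γ(CohB1.tensorPow L n, V)) (l : Γ(L, V)) :
    evN f φL hV hφ hc (n + 1) D (tens (CohB1.tensorPow L n) L V w l) =
      evN f φL hV hφ hc n (fun e => D e.castSucc) w * ev1 f φL hV hφ (D (Fin.last n)) l := by
  obtain ⟨r, rfl⟩ := exists_coeffs hc l
  have h : cw hc (tens (CohB1.tensorPow L n) L V w (∑ j, r j • c j)) = fun j => r j • w :=
    cw_eq hc (by simp only [tens_sum_right, tens_smul_left, tens_smul_right])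
  rw [evN_succ, h, map_sum, Finset.mul_sum]
  refine Finset.sum_congr rfl fun j _ => ?_
  rw [LinearMap.map_smulₛₗ, LinearMap.map_smulₛₗ, smul_eq_mul, smul_eq_mul]
  ring

theorem evN_zero (hi : 0 < i) (n : ℕ) (s : Γ(CohB1.tensorPow L (n + 1), V)) :
    evN f φL hV hφ hc (n + 1) 0 s = 0 := by
  refine (evN_succ f φL hV hφ hc n 0 s).trans (Finset.sum_eq_zero fun j _ => ?_)
  show _ * ev1 f φL hV hφ 0 (c j) = 0
  rw [ev1_zero f φL hV hφ hi, mul_zero]

theorem evN_comp {C' : Type u} [CommRing C'] [Algebra k C'] (ψ : C →+* C') {φ' : Γ(X, V) →+* C'}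
    (hφ' : Compat f φ') (hψ : ∀ b, φ' b = ψ (φ b)) :
    ∀ (n : ℕ) (D : Fin n → Fin i → Derivation k C C) (D' : Fin n → Fin i → Derivation k C' C')
      (_ : ∀ e a x, D' e a (ψ x) = ψ (D e a x)) (s : Γ(CohB1.tensorPow L n, V)),
      evN f φL hV hφ' hc n D' s = ψ (evN f φL hV hφ hc n D s)
  | 0, D, D', _, s => hψ _
  | n + 1, D, D', hD, s => by
    refine (evN_succ f φL hV hφ' hc n D' s).trans ?_
    refine Eq.trans ?_ (congrArg ψ (evN_succ f φL hV hφ hc n D s)).symm
    rw [map_sum]
    refine Finset.sum_congr rfl fun j _ => ?_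
    rw [map_mul, evN_comp ψ hφ' hψ n _ _ (fun e => hD e.castSucc),
      ev1_comp f φL hV hφ ψ hφ' hψ (hD (Fin.last n))]

variable (hφL : ∀ (U U' : X.affineOpens) (h : U'.1 ≤ U.1) (e : Fin i → (Omega.sheaf f).val.obj (op U.1)),
      L.val.map (homOfLE h).op ((φL U).symm (exteriorPower.ιMulti _ i e)) =
        (φL U').symm (exteriorPower.ιMulti _ i (fun j => (Omega.sheaf f).val.map (homOfLE h).op (e j))))
  {W : X.Opens} (hW : IsAffineOpen W) (hle : W ≤ V) {φW : Γ(X, W) →+* C} (hφW : Compat f φW)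
  (hres : ∀ b, φW (ro hle b) = φ b) {d' : ℕ} {c' : Fin d' → Γ(L, W)} (hc' : IsBasisOn L W c')

include hφL hres in
theorem evN_rs : ∀ (n : ℕ) (D : Fin n → Fin i → Derivation k C C) (s : Γ(CohB1.tensorPow L n, V)),
    evN f φL hW hφW hc' n D (rs (CohB1.tensorPow L n) hle s) = evN f φL hV hφ hc n D s
  | 0, D, s => hres _
  | n + 1, D, s => by
    refine Eq.trans ?_ (evN_succ f φL hV hφ hc n D s).symm
    have h : rs (CohB1.tensorPow L (n + 1)) hle s =
        ∑ j, tens (CohB1.tensorPow L n) L W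
          (rs (CohB1.tensorPow L n) hle (cw hc (show Γ(CohB1.tensorMod _ L, V) from s) j))
          (rs L hle (c j)) := by
      conv_lhs => rw [← cw_spec hc (show Γ(CohB1.tensorMod (CohB1.tensorPow L n) L, V) from s)]
      refine (Groth.L19.ProjBdl.rs_sum (CohB1.tensorMod (CohB1.tensorPow L n) L) hle _ _).trans ?_
      exact Finset.sum_congr rfl fun j _ => tens_rs hle _ _
    refine (congrArg (evN f φL hW hφW hc' (n + 1) D) h).trans ?_
    refine (map_sum (evN f φL hW hφW hc' (n + 1) D) _ _).trans ?_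
    refine Finset.sum_congr rfl fun j _ => (evN_tens f φL hW hφW hc' n D _ _).trans ?_
    rw [evN_rs n, ev1_rs f φL hV hφ hφL hW hle hφW hres]

end Groth.L16.RTrivForms
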