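import Groth.Agent.L16.RTrivForms.Tens
import Groth.Agent.L19.ProjBdl.Basis

/-!
# Values of sections at points in local rings
-/

set_option autoImplicit false
set_option linter.style.haveILetI false
set_option linter.unusedSectionVars false
set_option backward.isDefEq.respectTransparency false
set_option backward.isDefEq.respectTransparency.types false

universe u

open CategoryTheory CategoryTheory.Limits AlgebraicGeometry TopologicalSpace Opposite
open Groth.L18.Frame (rs ro rs_rs ro_ro rs_smul rs_self ro_self)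
open Groth.L19.ProjBdl (IsBasisOn exists_basisOn)

noncomputable section

namespace Groth.L16.RTrivForms

variable {k : Type u} [Field k] {X : Scheme.{u}} (f : X ⟶ Spec (CommRingCat.of k))

/-- The functions on an open evaluated at a point with values in a ring. -/
def ptHom {C : Type u} [CommRing C] (g : Spec (CommRingCat.of C) ⟶ X) (V : X.Opens)
    (h : ⊤ ≤ g ⁻¹ᵁ V) : Γ(X, V) →+* C :=
  (Scheme.ΓSpecIso (CommRingCat.of C)).hom.hom.comp (g.appLE V ⊤ h).hom

theorem ptHom_ro {C : Type u} [CommRing C] (g : Spec (CommRingCat.of C) ⟶ X) {V W : X.Opens}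
    (hle : W ≤ V) (hV : ⊤ ≤ g ⁻¹ᵁ V) (hW : ⊤ ≤ g ⁻¹ᵁ W) (b : Γ(X, V)) :
    ptHom g W hW (ro hle b) = ptHom g V hV b :=
  congrArg (fun z => (Scheme.ΓSpecIso (CommRingCat.of C)).hom z)
    (congr($(g.map_appLE hW (homOfLE hle).op) b))

theorem ptHom_comp {C C' : Type u} [CommRing C] [CommRing C'] (g : Spec (CommRingCat.of C) ⟶ X)
    (ψ : C →+* C') {V : X.Opens} (h : ⊤ ≤ g ⁻¹ᵁ V)
    (h' : ⊤ ≤ (Spec.map (CommRingCat.ofHom ψ) ≫ g) ⁻¹ᵁ V) (b : Γ(X, V)) :
    ptHom (Spec.map (CommRingCat.ofHom ψ) ≫ g) V h' b = ψ (ptHom g V h b) := by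
  have h1 : (Spec.map (CommRingCat.ofHom ψ) ≫ g).appLE V ⊤ h' =
      g.appLE V ⊤ h ≫ (Spec.map (CommRingCat.ofHom ψ)).appTop := by
    rw [show (Spec.map (CommRingCat.ofHom ψ)).appTop =
      (Spec.map (CommRingCat.ofHom ψ)).appLE ⊤ ⊤ le_top from
        (Scheme.Hom.app_eq_appLE _).trans rfl, Scheme.Hom.appLE_comp_appLE]
  show (Scheme.ΓSpecIso (CommRingCat.of C')).hom
    ((Spec.map (CommRingCat.ofHom ψ) ≫ g).appLE V ⊤ h' b) = _
  rw [h1]
  exact congr($(Scheme.ΓSpecIso_naturality (CommRingCat.ofHom ψ)) (g.appLE V ⊤ h b))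

theorem ptHom_compat {C : Type u} [CommRing C] [Algebra k C] {g : Spec (CommRingCat.of C) ⟶ X}
    (hg : g ≫ f = Spec.map (CommRingCat.ofHom (algebraMap k C))) {V : X.Opens} (h : ⊤ ≤ g ⁻¹ᵁ V) :
    Compat f (ptHom g V h) := by
  refine RingHom.ext fun a => ?_
  show (Scheme.ΓSpecIso (CommRingCat.of C)).hom
    ((f.appLE ⊤ V le_top ≫ g.appLE V ⊤ h) ((Scheme.ΓSpecIso (CommRingCat.of k)).inv a)) = _
  rw [Scheme.Hom.appLE_comp_appLE]
  have key : ∀ (m : Spec (CommRingCat.of C) ⟶ Spec (CommRingCat.of k)) (e : ⊤ ≤ m ⁻¹ᵁ ⊤),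
      m = Spec.map (CommRingCat.ofHom (algebraMap k C)) →
      (Scheme.ΓSpecIso (CommRingCat.of C)).hom
        (m.appLE ⊤ ⊤ e ((Scheme.ΓSpecIso (CommRingCat.of k)).inv a)) = algebraMap k C a := by
    intro m e hm
    subst hm
    rw [show (Spec.map (CommRingCat.ofHom (algebraMap k C))).appLE ⊤ ⊤ e =
      (Spec.map (CommRingCat.ofHom (algebraMap k C))).appTop from
        ((Scheme.Hom.app_eq_appLE _).trans rfl).symm]
    refine (congr($(Scheme.ΓSpecIso_naturality (CommRingCat.ofHom (algebraMap k C)))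
      ((Scheme.ΓSpecIso (CommRingCat.of k)).inv a))).trans ?_
    exact congrArg (algebraMap k C) (congr($((Scheme.ΓSpecIso (CommRingCat.of k)).inv_hom_id) a))
  exact key _ _ hg

/-- Affine opens on which a module has a basis. -/
def Good (L : X.Modules) (V : X.Opens) : Prop :=
  IsAffineOpen V ∧ ∃ (d : ℕ) (c : Fin d → Γ(L, V)), IsBasisOn L V c

theorem exists_good_le {L : X.Modules} (hL : FlatMod.IsFinLocFree L) (x : X) (O : X.Opens)
    (hx : x ∈ O) : ∃ V : X.Opens, x ∈ V ∧ V ≤ O ∧ Good L V := by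
  obtain ⟨V, d, c, hV, hxV, hVO, hc⟩ := exists_basisOn hL x O hx
  exact ⟨V, hxV, hVO, hV, d, c, hc⟩

theorem top_le_preimage {C : Type u} [CommRing C] [IsLocalRing C] (g : Spec (CommRingCat.of C) ⟶ X)
    {V : X.Opens} (h : g (IsLocalRing.closedPoint C) ∈ V) : ⊤ ≤ g ⁻¹ᵁ V :=
  fun y _ => (IsLocalRing.specializes_closedPoint y).mem_open (g ⁻¹ᵁ V).2 h

variable [QuasiSeparated f] {i : ℕ} {L : X.Modules} (hL : ExtPow.IsExtPow i (Omega.sheaf f) L)
  (hLF : FlatMod.IsFinLocFree L) {C : Type u} [CommRing C] [Algebra k C] {n : ℕ}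

/-- Contraction on a good open. -/
def evG {V : X.Opens} (hG : Good L V) {φ : Γ(X, V) →+* C} (hφ : Compat f φ)
    (D : Fin n → Fin i → Derivation k C C) : Γ(CohB1.tensorPow L n, V) →ₛₗ[φ] C :=
  evN f hL.choose hG.1 hφ hG.2.choose_spec.choose_spec n D

theorem evG_rs {V W : X.Opens} (hG : Good L V) (hGW : Good L W) (hle : W ≤ V) {φ : Γ(X, V) →+* C}
    (hφ : Compat f φ) {φW : Γ(X, W) →+* C} (hφW : Compat f φW) (hres : ∀ b, φW (ro hle b) = φ b)
    (D : Fin n → Fin i → Derivation k C C) (s : Γ(CohB1.tensorPow L n, V)) :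
    evG f hL hGW hφW D (rs (CohB1.tensorPow L n) hle s) = evG f hL hG hφ D s :=
  evN_rs f hL.choose hG.1 hφ _ hL.choose_spec hGW.1 hle hφW hres _ n D s

variable [IsLocalRing C] (g : Spec (CommRingCat.of C) ⟶ X)
  (hg : g ≫ f = Spec.map (CommRingCat.ofHom (algebraMap k C)))

include hLF in
theorem exists_chart : ∃ V : X.Opens, ⊤ ≤ g ⁻¹ᵁ V ∧ Good L V := by
  obtain ⟨V, hV, -, hG⟩ := exists_good_le hLF (g (IsLocalRing.closedPoint C)) ⊤ trivial
  exact ⟨V, top_le_preimage g hV, hG⟩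

/-- The value of a global section at a point, contracted with derivations. -/
def val (D : Fin n → Fin i → Derivation k C C) (s : Γ(CohB1.tensorPow L n, ⊤)) : C :=
  evG f hL (exists_chart hLF g).choose_spec.2
    (ptHom_compat f hg (exists_chart hLF g).choose_spec.1) D
    (rs (CohB1.tensorPow L n) le_top s)

theorem val_eq {V : X.Opens} (hV : ⊤ ≤ g ⁻¹ᵁ V) (hG : Good L V)
    (D : Fin n → Fin i → Derivation k C C) (s : Γ(CohB1.tensorPow L n, ⊤)) :
    val f hL hLF g hg D s =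
      evG f hL hG (ptHom_compat f hg hV) D (rs (CohB1.tensorPow L n) le_top s) := by
  let hc := (exists_chart (L := L) hLF g)
  obtain ⟨W, hW, hWle, hGW⟩ := exists_good_le hLF (g (IsLocalRing.closedPoint C)) (hc.choose ⊓ V)
    ⟨hc.choose_spec.1 trivial, hV trivial⟩
  have hW' := top_le_preimage g hW
  refine Eq.trans ?_ (evG_rs f hL hG hGW (hWle.trans inf_le_right) (ptHom_compat f hg hV)
    (ptHom_compat f hg hW') (fun b => ptHom_ro g _ hV hW' b) D _)
  refine Eq.trans (evG_rs f hL hc.choose_spec.2 hGW (hWle.trans inf_le_left)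
    (ptHom_compat f hg hc.choose_spec.1)
    (ptHom_compat f hg hW') (fun b => ptHom_ro g _ hc.choose_spec.1 hW' b) D _).symm ?_
  rw [rs_rs, rs_rs]

theorem val_congr {g' : Spec (CommRingCat.of C) ⟶ X} (e : g' = g)
    (hg' : g' ≫ f = Spec.map (CommRingCat.ofHom (algebraMap k C)))
    (D : Fin n → Fin i → Derivation k C C) (s : Γ(CohB1.tensorPow L n, ⊤)) :
    val f hL hLF g' hg' D s = val f hL hLF g hg D s := by
  subst e; rfl

theorem val_comp {C' : Type u} [CommRing C'] [Algebra k C'] [IsLocalRing C'] (ψ : C →+* C')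
    (hg' : (Spec.map (CommRingCat.ofHom ψ) ≫ g) ≫ f =
      Spec.map (CommRingCat.ofHom (algebraMap k C')))
    {D : Fin n → Fin i → Derivation k C C} {D' : Fin n → Fin i → Derivation k C' C'}
    (hD : ∀ e a x, D' e a (ψ x) = ψ (D e a x)) (s : Γ(CohB1.tensorPow L n, ⊤)) :
    val f hL hLF (Spec.map (CommRingCat.ofHom ψ) ≫ g) hg' D' s = ψ (val f hL hLF g hg D s) := by
  obtain ⟨V, hV, hG⟩ := exists_chart (L := L) hLF g
  have hV' : ⊤ ≤ (Spec.map (CommRingCat.ofHom ψ) ≫ g) ⁻¹ᵁ V := fun y _ =>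
    hV (x := Spec.map (CommRingCat.ofHom ψ) y) trivial
  rw [val_eq f hL hLF g hg hV hG, val_eq f hL hLF _ hg' hV' hG]
  exact evN_comp f hL.choose hG.1 (ptHom_compat f hg hV) _ ψ (ptHom_compat f hg' hV')
    (fun b => ptHom_comp g ψ hV hV' b) n D D' hD _

theorem val_zero (hi : 0 < i) (hn : 0 < n) (s : Γ(CohB1.tensorPow L n, ⊤)) :
    val f hL hLF g hg 0 s = 0 := by
  obtain ⟨m, rfl⟩ : ∃ m, n = m + 1 := ⟨n - 1, by omega⟩
  exact evN_zero f _ _ _ _ hi m _

end Groth.L16.RTrivForms
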